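/-
Abstract cohomological spectral sequences: stationary positions, vanishing, filtrations.
-/
import Groth.Prelude.Def_SpSeq
import Groth.Agent.Lib.FilCx.Basic

set_option autoImplicit false

open CategoryTheory CategoryTheory.Limits

namespace Groth.Agent.Lib.SSAbs.Basic

open Groth.Agent.Lib.FilCx.Basic
open Groth.Agent.Lib.IndCof.Basic (factors_local le_of_mem)

universe v u

variable {C : Type u} [Category.{v} C] [Abelian C] {r₀ : ℤ}
variable (E : CohomologicalSpectralSequence C r₀)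

lemma rel_prev (r : ℤ) (pq : ℤ × ℤ) : (ComplexShape.up' ((r, 1 - r) : ℤ × ℤ)).Rel (pq - (r, 1 - r)) pq :=
  sub_add_cancel pq ((r, 1 - r) : ℤ × ℤ)

lemma rel_next (r : ℤ) (pq : ℤ × ℤ) : (ComplexShape.up' ((r, 1 - r) : ℤ × ℤ)).Rel pq (pq + (r, 1 - r)) := rfl

lemma eq_add_of_rel {r : ℤ} {pq pq' : ℤ × ℤ} (h : (ComplexShape.up' ((r, 1 - r) : ℤ × ℤ)).Rel pq pq') :
    pq' = pq + (r, 1 - r) := Eq.symm h

lemma induction_from {motive : ∀ k : ℤ, r₀ ≤ k → Prop} {r : ℤ} (hr : r₀ ≤ r) (base : motive r hr)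
    (step : ∀ k (hk : r₀ ≤ k), r ≤ k → motive k hk → motive (k + 1) (Int.le_add_one hk)) :
    ∀ k (hk : r ≤ k), motive k (hr.trans hk) := fun k hk => by
  induction k, hk using Int.leInduction with
  | base => exact base
  | succ k hk ih => exact step k _ hk ih

lemma isZero_page {pq : ℤ × ℤ} {r : ℤ} (hr : r₀ ≤ r) (h : IsZero ((E.page r hr).X pq)) :
    ∀ (k : ℤ) (hk : r ≤ k), IsZero ((E.page k (hr.trans hk)).X pq) :=
  induction_from (motive := fun k hk => IsZero ((E.page k hk).X pq)) hr h fun k hk _ ih =>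
    IsZero.of_iso (ShortComplex.isZero_homology_of_isZero_X₂ _ ih) (E.iso k (k + 1) pq rfl hk).symm

lemma nonempty_stat_succ {pq : ℤ × ℤ} {r : ℤ} (h : SpSeq.StationaryAt E pq r) (k : ℤ) (hk : r₀ ≤ k)
    (hrk : r ≤ k) : Nonempty ((E.page (k + 1) (Int.le_add_one hk)).X pq ≅ (E.page k hk).X pq) :=
  ⟨(E.iso k (k + 1) pq rfl hk).symm ≪≫ (ShortComplex.LeftHomologyData.ofZeros ((E.page k hk).sc pq)
    (by
      change (E.page k hk).d _ pq = 0
      rw [(ComplexShape.up' ((k, 1 - k) : ℤ × ℤ)).prev_eq' (rel_prev k pq)]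
      exact (h.2 k hk hrk).1)
    (by
      change (E.page k hk).d pq _ = 0
      rw [(ComplexShape.up' ((k, 1 - k) : ℤ × ℤ)).next_eq' (rel_next k pq)]
      exact (h.2 k hk hrk).2)).homologyIso⟩

lemma nonempty_stat {pq : ℤ × ℤ} {r : ℤ} (h : SpSeq.StationaryAt E pq r) (k : ℤ) (hrk : r ≤ k) :
    Nonempty ((E.page k (h.1.trans hrk)).X pq ≅ (E.page r h.1).X pq) :=
  induction_from (motive := fun k hk => Nonempty ((E.page k hk).X pq ≅ (E.page r h.1).X pq)) h.1
    ⟨Iso.refl _⟩ (fun k hk hrk ⟨e⟩ => ⟨(nonempty_stat_succ E h k hk hrk).some ≪≫ e⟩) k hrk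

variable {E} {H : ℤ → C} (a : SpSeq.Abutment E H)

lemma nonempty_gr (pq : ℤ × ℤ) (n : ℤ) (hn : pq.1 + pq.2 = n) :
    Nonempty (SpSeq.grPiece (a.fil n) (a.anti n) pq.1 ≅ (E.page (a.rk pq) (a.stat pq).1).X pq) := by
  subst hn
  exact ⟨(a.β pq).symm⟩

lemma nonempty_gr_of_le (pq : ℤ × ℤ) (n : ℤ) (hn : pq.1 + pq.2 = n) (k : ℤ) (hk : a.rk pq ≤ k) :
    Nonempty (SpSeq.grPiece (a.fil n) (a.anti n) pq.1 ≅ (E.page k ((a.stat pq).1.trans hk)).X pq) :=
  ⟨(nonempty_gr a pq n hn).some ≪≫ (nonempty_stat E (a.stat pq) k hk).some.symm⟩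

lemma isZero_gr (pq : ℤ × ℤ) (n : ℤ) (hn : pq.1 + pq.2 = n) {r : ℤ} (hr : r₀ ≤ r)
    (h : IsZero ((E.page r hr).X pq)) : IsZero (SpSeq.grPiece (a.fil n) (a.anti n) pq.1) :=
  IsZero.of_iso (isZero_page E hr h (max r (a.rk pq)) (le_max_left _ _))
    (nonempty_gr_of_le a pq n hn _ (le_max_right _ _)).some

section fil

variable {X : C} {F : ℤ → Subobject X} (hF : Antitone F)

lemma eq_succ {p : ℤ} (h : IsZero (SpSeq.grPiece F hF p)) : F p = F (p + 1) :=
  le_antisymm (le_of_mem fun _ z hz =>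
    (cls_eq_zero_iff (hF (Int.le_add_one le_rfl)) hz).1 (h.eq_of_tgt _ _)) (hF (Int.le_add_one le_rfl))

lemma eq_of_isZero {p q : ℤ} (hpq : p ≤ q) (h : ∀ i, p ≤ i → i < q → IsZero (SpSeq.grPiece F hF i)) :
    F p = F q := by
  induction q, hpq using Int.leInduction with
  | base => rfl
  | succ k hk ih =>
    exact (ih fun i hi hik => h i hi (by omega)).trans (eq_succ hF (h k hk (by omega)))

lemma eq_top_of_isZero {a s : ℤ} (ha : F a = ⊤) (h : ∀ i, i < s → IsZero (SpSeq.grPiece F hF i)) :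
    F s = ⊤ := by
  rcases le_total a s with has | hsa
  · rw [← eq_of_isZero hF has fun i _ hi => h i hi, ha]
  · exact top_le_iff.1 (ha.ge.trans (hF hsa))

lemma eq_bot_of_isZero {b s : ℤ} (hb : F b = ⊥) (h : ∀ i, s ≤ i → IsZero (SpSeq.grPiece F hF i)) :
    F s = ⊥ := by
  rcases le_total b s with hbs | hsb
  · exact le_bot_iff.1 ((hF hbs).trans hb.le)
  · rw [eq_of_isZero hF hsb fun i hi _ => h i hi, hb]

lemma nonempty_iso_grPiece {s : ℤ} (ht : F s = ⊤) (hb : F (s + 1) = ⊥) :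
    Nonempty (X ≅ SpSeq.grPiece F hF s) := by
  have : IsIso (F s).arrow := by rw [ht]; infer_instance
  have h0 : (F (s + 1)).ofLE (F s) (hF (Int.le_add_one le_rfl)) = 0 := by
    have : IsZero (F (s + 1) : C) := by rw [hb]; exact (isZero_zero C).of_iso Subobject.botCoeIsoZero
    exact this.eq_of_src _ _
  have h3 := cokernel.π_of_zero h0
  exact ⟨(asIso (F s).arrow).symm ≪≫ @asIso _ _ _ _ _ h3⟩

end fil

section hom

variable {E' : CohomologicalSpectralSequence C r₀} (φ : E ⟶ E')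

lemma f_succ (k : ℤ) (hk : r₀ ≤ k) (pq : ℤ × ℤ) :
    (φ.hom (k + 1) (Int.le_add_one hk)).f pq =
      (E.iso k (k + 1) pq rfl hk).inv ≫ HomologicalComplex.homologyMap (φ.hom k hk) pq ≫
        (E'.iso k (k + 1) pq rfl hk).hom := by
  rw [φ.comm k (k + 1) pq rfl hk, Iso.inv_hom_id_assoc]

lemma f_eq_zero {pq : ℤ × ℤ} {r : ℤ} (hr : r₀ ≤ r) (h : (φ.hom r hr).f pq = 0) :
    ∀ (k : ℤ) (hk : r ≤ k), (φ.hom k (hr.trans hk)).f pq = 0 :=
  induction_from (motive := fun k hk => (φ.hom k hk).f pq = 0) hr h fun k hk _ ih => by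
    have hm : HomologicalComplex.homologyMap (φ.hom k hk) pq = 0 := by
      have hc : HomologicalComplex.cyclesMap (φ.hom k hk) pq = 0 := by
        rw [← cancel_mono ((E'.page k hk).iCycles pq), HomologicalComplex.cyclesMap_i, ih, comp_zero, zero_comp]
      rw [← cancel_epi ((E.page k hk).homologyπ pq), HomologicalComplex.homologyπ_naturality, hc,
        zero_comp, comp_zero]
    rw [f_succ φ k hk, hm, zero_comp, comp_zero]

end hom

end Groth.Agent.Lib.SSAbs.Basic
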