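/-
Traces of an endomorphism along a spectral sequence: modules over `ℂ[X]` seen as complex vector spaces
with an endomorphism.
-/
import Groth.Agent.Lib.SSAbs.Basic
import Mathlib.Algebra.Category.ModuleCat.ChangeOfRings
import Mathlib.Algebra.Category.ModuleCat.Abelian
import Mathlib.Algebra.Category.ModuleCat.EpiMono
import Mathlib.Algebra.Homology.ShortComplex.ModuleCat
import Mathlib.Algebra.Polynomial.Basic
import Mathlib.LinearAlgebra.Eigenspace.Charpoly
import Mathlib.LinearAlgebra.Trace
import Mathlib.Analysis.Complex.Polynomial.Basic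
import Mathlib.Analysis.Normed.Group.InfiniteSum

set_option autoImplicit false

open CategoryTheory CategoryTheory.Limits

namespace Groth.Agent.Lib.SSAbs.Trace

universe u

/-- Trace is additive in short exact sequences. -/
theorem trace_add {K : Type*} [Field K] {U V W : Type*} [AddCommGroup U] [Module K U] [AddCommGroup V]
    [Module K V] [AddCommGroup W] [Module K W] [FiniteDimensional K V] [FiniteDimensional K U]
    [FiniteDimensional K W] (i : U →ₗ[K] V) (π : V →ₗ[K] W) (hi : Function.Injective i)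
    (hπ : Function.Surjective π) (hex : Function.Exact i π) (fU : U →ₗ[K] U) (fV : V →ₗ[K] V)
    (fW : W →ₗ[K] W) (h1 : fV ∘ₗ i = i ∘ₗ fU) (h2 : π ∘ₗ fV = fW ∘ₗ π) :
    LinearMap.trace K V fV = LinearMap.trace K U fU + LinearMap.trace K W fW := by
  obtain ⟨r, hr⟩ := i.exists_leftInverse_of_injective (LinearMap.ker_eq_bot.2 hi)
  obtain ⟨s₀, hs₀⟩ := π.exists_rightInverse_of_surjective (LinearMap.range_eq_top.2 hπ)
  have hπi : ∀ x, π (i x) = 0 := fun x => (hex (i x)).2 ⟨x, rfl⟩
  let s := s₀ - i ∘ₗ r ∘ₗ s₀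
  have hr' : ∀ x, r (i x) = x := fun x => congr($hr x)
  have hs' : ∀ x, π (s x) = x := fun x => by
    have := congr($hs₀ x)
    simp only [LinearMap.comp_apply, LinearMap.id_apply] at this
    simp [s, hπi, this]
  have hid : fV = fV ∘ₗ (i ∘ₗ r) + fV ∘ₗ (s ∘ₗ π) := by
    ext v
    obtain ⟨u, hu⟩ := (hex (v - s (π v))).1 (by simp [hs'])
    have h0 : i (r v) + s (π v) = v := by
      have hrs : r (s (π v)) = 0 := by simp [s, hr']
      have : r v = u := by
        have := congrArg r hu
        rw [hr', map_sub, hrs, sub_zero] at this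
        exact this.symm
      rw [this, hu, sub_add_cancel]
    simp only [LinearMap.add_apply, LinearMap.comp_apply, ← map_add, h0]
  calc LinearMap.trace K V fV
      = LinearMap.trace K V (fV ∘ₗ (i ∘ₗ r)) + LinearMap.trace K V (fV ∘ₗ (s ∘ₗ π)) := by
        conv_lhs => rw [hid]
        rw [map_add]
    _ = LinearMap.trace K U fU + LinearMap.trace K W fW := by
        congr 1
        · rw [← LinearMap.comp_assoc, ← LinearMap.trace_comp_comm' (fV ∘ₗ i) r, h1, ← LinearMap.comp_assoc, hr,
            LinearMap.id_comp]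
        · rw [← LinearMap.comp_assoc, ← LinearMap.trace_comp_comm' (fV ∘ₗ s) π, ← LinearMap.comp_assoc, h2,
            LinearMap.comp_assoc]
          congr 1
          ext x
          simp [hs']

/-- A trace is bounded by the dimension times a bound on the eigenvalues. -/
theorem norm_trace_le {V : Type*} [AddCommGroup V] [Module ℂ V] [FiniteDimensional ℂ V] (f : V →ₗ[ℂ] V)
    (ρ : ℝ) (h : ∀ μ : ℂ, Module.End.HasEigenvalue f μ → ‖μ‖ ≤ ρ) :
    ‖LinearMap.trace ℂ V f‖ ≤ (Module.finrank ℂ V : ℝ) * ρ := by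
  have hs := IsAlgClosed.splits f.charpoly
  rw [Module.End.trace_eq_sum_roots_charpoly_of_splits hs]
  have hc : f.charpoly.roots.card = Module.finrank ℂ V := by
    rw [← Polynomial.Splits.natDegree_eq_card_roots hs, LinearMap.charpoly_natDegree]
  rw [← hc, ← nsmul_eq_mul]
  refine (norm_multiset_sum_le _).trans ((Multiset.sum_le_card_nsmul _ ρ fun x hx => ?_).trans (le_of_eq ?_))
  · obtain ⟨μ, hμ, rfl⟩ := Multiset.mem_map.1 hx
    exact h μ ((Module.End.hasEigenvalue_iff_isRoot_charpoly f μ).2 (Polynomial.isRoot_of_mem_roots hμ))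
  · rw [Multiset.card_map]

noncomputable section

variable (M N : ModuleCat.{u} (Polynomial ℂ))

/-- The underlying complex vector space. -/
abbrev Res : ModuleCat.{u} ℂ := (ModuleCat.restrictScalars (algebraMap ℂ (Polynomial ℂ))).obj M

/-- The endomorphism. -/
abbrev endo : Res M →ₗ[ℂ] Res M :=
  ((ModuleCat.restrictScalars (algebraMap ℂ (Polynomial ℂ))).map ((Polynomial.X : Polynomial ℂ) • 𝟙 M)).hom

/-- Its trace. -/
abbrev tr : ℂ := LinearMap.trace ℂ _ (endo M)

/-- Finite dimensional, with eigenvalues bounded by `ρ` and dimension by `m`. -/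
def Good (ρ : ℝ) (m : ℕ) : Prop :=
  Module.Finite ℂ (Res M) ∧ (∀ μ : ℂ, Module.End.HasEigenvalue (endo M) μ → ‖μ‖ ≤ ρ) ∧
    Module.finrank ℂ (Res M) ≤ m

variable {M N}

lemma endo_comm (f : M ⟶ N) (x : Res M) :
    endo N (((ModuleCat.restrictScalars (algebraMap ℂ (Polynomial ℂ))).map f).hom x) =
      ((ModuleCat.restrictScalars (algebraMap ℂ (Polynomial ℂ))).map f).hom (endo M x) := by
  exact (f.hom.map_smul (Polynomial.X : Polynomial ℂ) (x : M)).symm

lemma Good.norm_tr {ρ : ℝ} {m : ℕ} (h : Good M ρ m) (hρ : 0 ≤ ρ) : ‖tr M‖ ≤ m * ρ := by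
  have := h.1
  exact (norm_trace_le (endo M) ρ h.2.1).trans (mul_le_mul_of_nonneg_right (Nat.cast_le.2 h.2.2) hρ)

lemma tr_eq_zero (h : IsZero M) : tr M = 0 := by
  have : Subsingleton (Res M) := (ModuleCat.subsingleton_of_isZero h : Subsingleton M)
  rw [tr, Subsingleton.elim (endo M) 0, map_zero]

lemma tr_iso (e : M ≅ N) : tr M = tr N := by
  let e' : Res M ≃ₗ[ℂ] Res N := ((ModuleCat.restrictScalars (algebraMap ℂ (Polynomial ℂ))).mapIso e).toLinearEquiv
  have h : e'.conj (endo M) = endo N := by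
    ext x
    rw [LinearEquiv.conj_apply_apply]
    have := endo_comm e.hom (e'.symm x)
    exact this.symm.trans (congrArg (endo N) (e'.apply_symm_apply x))
  rw [tr, tr, ← h, LinearMap.trace_conj']

/-- Short exact sequences. -/
theorem ses {S : ShortComplex (ModuleCat.{u} (Polynomial ℂ))} (hS : S.ShortExact) :
    (Module.Finite ℂ (Res S.X₁) → Module.Finite ℂ (Res S.X₃) →
      Module.Finite ℂ (Res S.X₂) ∧ tr S.X₂ = tr S.X₁ + tr S.X₃) ∧
    ∀ (ρ : ℝ) (m : ℕ), Good S.X₂ ρ m → Good S.X₁ ρ m ∧ Good S.X₃ ρ m := by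
  let f := ((ModuleCat.restrictScalars (algebraMap ℂ (Polynomial ℂ))).map S.f).hom
  let g := ((ModuleCat.restrictScalars (algebraMap ℂ (Polynomial ℂ))).map S.g).hom
  have hi : Function.Injective f := hS.moduleCat_injective_f
  have hp : Function.Surjective g := hS.moduleCat_surjective_g
  have hex : Function.Exact f g := fun x =>
    ((ShortComplex.ShortExact.moduleCat_exact_iff_function_exact S).1 hS.exact) x
  refine ⟨fun h1 h3 => ?_, fun ρ m ⟨hfin, hev, hdim⟩ => ?_⟩
  · have h2 : Module.Finite ℂ (Res S.X₂) := by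
      have := Module.Finite.of_surjective (LinearMap.rangeRestrict f) f.surjective_rangeRestrict
      have hker : LinearMap.range f = LinearMap.ker g := (LinearMap.exact_iff.1 hex).symm
      have : Module.Finite ℂ (LinearMap.ker g) := hker ▸ this
      have : Module.Finite ℂ (Res S.X₂ ⧸ LinearMap.ker g) :=
        Module.Finite.equiv (g.quotKerEquivOfSurjective hp).symm
      exact Module.Finite.of_submodule_quotient (LinearMap.ker g)
    exact ⟨h2, trace_add f g hi hp hex (endo S.X₁) (endo S.X₂) (endo S.X₃)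
      (LinearMap.ext (endo_comm S.f)) (LinearMap.ext fun x => (endo_comm S.g x).symm)⟩
  · have f1 : Module.Finite ℂ (Res S.X₁) := Module.Finite.of_injective f hi
    have f3 : Module.Finite ℂ (Res S.X₃) := Module.Finite.of_surjective g hp
    refine ⟨⟨f1, fun μ hμ => hev μ ?_, (LinearMap.finrank_le_finrank_of_injective hi).trans hdim⟩,
      ⟨f3, fun μ hμ => hev μ ?_, ?_⟩⟩
    · obtain ⟨x, hx⟩ := hμ.exists_hasEigenvector
      refine Module.End.hasEigenvalue_of_hasEigenvector (x := f x) ⟨?_, fun h => hx.2 (hi (h.trans (map_zero f).symm))⟩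
      rw [Module.End.mem_eigenspace_iff, endo_comm S.f, hx.apply_eq_smul, map_smul]
    · by_contra hn
      have hinj : Function.Injective (endo S.X₂ - μ • LinearMap.id : Res S.X₂ →ₗ[ℂ] Res S.X₂) := by
        refine LinearMap.ker_eq_bot.1 (not_not.1 fun hk => hn ?_)
        obtain ⟨x, hx, hx0⟩ := Submodule.exists_mem_ne_zero_of_ne_bot hk
        exact Module.End.hasEigenvalue_of_hasEigenvector (x := x)
          ⟨Module.End.mem_eigenspace_iff.2 (sub_eq_zero.1 hx), hx0⟩
      have hs := LinearMap.injective_iff_surjective.1 hinj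
      have hs3 : Function.Surjective (endo S.X₃ - μ • LinearMap.id : Res S.X₃ →ₗ[ℂ] Res S.X₃) := by
        intro y
        obtain ⟨x, rfl⟩ := hp y
        obtain ⟨z, rfl⟩ := hs x
        refine ⟨g z, ?_⟩
        simp only [LinearMap.sub_apply, LinearMap.smul_apply, LinearMap.id_apply, map_sub, map_smul, g, endo_comm]
      obtain ⟨x, hx⟩ := hμ.exists_hasEigenvector
      refine hx.2 (LinearMap.injective_iff_surjective.2 hs3 ?_)
      rw [map_zero, LinearMap.sub_apply, hx.apply_eq_smul]; exact sub_self _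
    · refine le_trans ?_ hdim
      rw [← finrank_top ℂ (Res S.X₃), ← LinearMap.range_eq_top.2 hp]
      exact LinearMap.finrank_range_le _

lemma Good.of_iso {ρ : ℝ} {m : ℕ} (h : Good M ρ m) (e : M ≅ N) : Good N ρ m := by
  open ZeroObject in
  have hS : (ShortComplex.mk (0 : (0 : ModuleCat.{u} (Polynomial ℂ)) ⟶ M) e.hom zero_comp).ShortExact :=
    ShortComplex.ShortExact.mk' (((ShortComplex.mk (0 : (0 : ModuleCat.{u} (Polynomial ℂ)) ⟶ M) e.hom
      zero_comp).exact_iff_mono rfl).2 (inferInstanceAs (Mono e.hom)))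
      ⟨fun _ _ _ => (isZero_zero _).eq_of_tgt _ _⟩ inferInstance
  exact ((ses hS).2 ρ m h).2

end

end Groth.Agent.Lib.SSAbs.Trace
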